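import Cfsg.Agent.H527.RC.Defs

/-!
# S4191, task SP43: groups with a normal `5`-complement in `Sp_4(3)` have order at most 160 (or trivial `5`-part)
-/

set_option autoImplicit false
set_option linter.unusedSectionVars false

namespace Cfsg.Agent.H757.RC.Sp

open scoped Pointwise commutatorElement
open Cfsg.Agent.H527.RC

universe u v

/-! ### orders and stabilizers -/

theorem card_dvd_mul {H Ω : Type*} [Group H] [Finite H] [Finite Ω] [MulAction H Ω] {D : ℕ}
    (hD : ∀ ω : Ω, Nat.card (MulAction.stabilizer H ω) ∣ D) : Nat.card H ∣ Nat.card Ω * D := by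
  classical
  let _ : Fintype H := Fintype.ofFinite H
  let _ : Fintype Ω := Fintype.ofFinite Ω
  let _ : Fintype (Quotient <| MulAction.orbitRel H Ω) := Fintype.ofFinite _
  rw [Nat.card_eq_fintype_card (α := Ω), MulAction.card_eq_sum_card_group_div_card_stabilizer H Ω, Finset.sum_mul]
  apply Finset.dvd_sum
  intro ω _
  have h1 : Nat.card (MulAction.stabilizer H ω.out) ∣ Nat.card H := Subgroup.card_subgroup_dvd_card _
  obtain ⟨a, ha⟩ := h1
  obtain ⟨b, hb⟩ := hD ω.out
  have h2 : Fintype.card H / Fintype.card (MulAction.stabilizer H ω.out) = a := by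
    rw [← Nat.card_eq_fintype_card, ← Nat.card_eq_fintype_card, ha]
    exact Nat.mul_div_cancel_left _ Nat.card_pos
  rw [h2, ha, hb]
  exact ⟨b, by ring⟩

theorem step {G : Type u} {X : Type v} [Group G] [Finite G] [Finite X] [MulAction G X] (H : Subgroup G) (S : Set X) (hS : ∀ h ∈ H, ∀ s ∈ S, h • s ∈ S) {D : ℕ}
    (hD : ∀ s ∈ S, Nat.card (H ⊓ MulAction.stabilizer G s : Subgroup G) ∣ D) : Nat.card H ∣ Nat.card S * D := by
  let _ : MulAction H S := {
    smul := fun h s => ⟨(h : G) • (s : X), hS h h.2 s s.2⟩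
    one_smul := fun s => Subtype.ext (one_smul G (s : X))
    mul_smul := fun a b s => Subtype.ext (mul_smul (a : G) (b : G) (s : X)) }
  apply card_dvd_mul
  intro s
  have h1 : Nat.card (MulAction.stabilizer H s) = Nat.card (H ⊓ MulAction.stabilizer G (s : X) : Subgroup G) := by
    apply Nat.card_congr
    refine ⟨fun x => ⟨(x.1 : G), x.1.2, ?_⟩, fun x => ⟨⟨x.1, x.2.1⟩, ?_⟩, fun _ => rfl, fun _ => rfl⟩
    · have h2 : x.1 • s = s := x.2
      exact congrArg Subtype.val h2
    · exact Subtype.ext x.2.2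
  rw [h1]
  exact hD s s.2

/-! ### forms -/

variable {G : Type u} {X : Type v} [Group G] [Finite G] [AddCommGroup X] [Finite X] [DistribMulAction G X]

omit [Finite X] in
/-- fibers of homomorphisms -/
theorem card_fiber {B : Type*} [AddCommGroup B] [Finite B] (f : X →+ B) (hf : Function.Surjective f) (b : B) :
    Nat.card {x // f x = b} * Nat.card B = Nat.card X := by
  obtain ⟨a, rfl⟩ := hf b
  have h1 : Nat.card {x // f x = f a} = Nat.card f.ker := by
    apply Nat.card_congr
    refine ⟨fun x => ⟨x.1 - a, ?_⟩, fun x => ⟨x.1 + a, ?_⟩, fun x => ?_, fun x => ?_⟩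
    · rw [AddMonoidHom.mem_ker, map_sub, x.2, sub_self]
    · rw [map_add, (AddMonoidHom.mem_ker).1 x.2, zero_add]
    · exact Subtype.ext (sub_add_cancel _ _)
    · exact Subtype.ext (add_sub_cancel_right _ _)
  rw [h1, ← Nat.card_congr (QuotientAddGroup.quotientKerEquivOfSurjective f hf).toEquiv, mul_comm]
  exact (AddSubgroup.card_eq_card_quotient_mul_card_addSubgroup f.ker).symm

/-- an invariant nondegenerate alternating form -/
structure Fm (G X : Type*) [Group G] [AddCommGroup X] [DistribMulAction G X] (β : X → X → ZMod 3) : Prop where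
  add_left : ∀ a b c, β (a + b) c = β a c + β b c
  add_right : ∀ a b c, β a (b + c) = β a b + β a c
  alt : ∀ a, β a a = 0
  nondeg : ∀ a, (∀ b, β a b = 0) → a = 0
  inv : ∀ (g : G) a b, β (g • a) (g • b) = β a b

namespace Fm

variable {β : X → X → ZMod 3} (F : Fm G X β)

include F

/-- the form as a homomorphism -/
def R (a : X) : X →+ ZMod 3 where
  toFun b := β a b
  map_zero' := by
    have h1 := F.add_right a 0 0
    rw [add_zero] at h1
    exact left_eq_add.1 h1
  map_add' := F.add_right a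

theorem R_apply (a b : X) : F.R a b = β a b := rfl

theorem zero_right (a : X) : β a 0 = 0 := (F.R a).map_zero

theorem neg_right (a b : X) : β a (-b) = -β a b := (F.R a).map_neg b

theorem sub_right (a b c : X) : β a (b - c) = β a b - β a c := (F.R a).map_sub b c

theorem zsmul_right (a b : X) (n : ℤ) : β a (n • b) = n • β a b := map_zsmul (F.R a) n b

theorem skew (a b : X) : β a b = -β b a := by
  have h1 := F.alt (a + b)
  rw [F.add_left, F.add_right, F.add_right, F.alt, F.alt, zero_add, add_zero] at h1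
  exact eq_neg_of_add_eq_zero_left h1

theorem zero_left (a : X) : β 0 a = 0 := by rw [F.skew, F.zero_right, neg_zero]

theorem neg_left (a b : X) : β (-a) b = -β a b := by rw [F.skew, F.neg_right, F.skew b a, neg_neg]

theorem sub_left (a b c : X) : β (a - b) c = β a c - β b c := by rw [sub_eq_add_neg, F.add_left, F.neg_left, sub_eq_add_neg]

theorem zsmul_left (a b : X) (n : ℤ) : β (n • a) b = n • β a b := by
  rw [F.skew, F.zsmul_right, F.skew b a, smul_neg, neg_neg]

/-- a vector with value one -/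
theorem exists_one {a : X} (ha : a ≠ 0) : ∃ b, β a b = 1 := by
  have h1 : ∃ b, β a b ≠ 0 := by
    by_contra! h
    exact ha (F.nondeg a h)
  obtain ⟨b, hb⟩ := h1
  have h3 : ∀ z : ZMod 3, z ≠ 0 → z = 1 ∨ -z = 1 := by decide
  rcases h3 _ hb with h | h
  · exact ⟨b, h⟩
  · exact ⟨-b, by rw [F.neg_right, h]⟩

/-- **the order of a group preserving the form** -/
theorem card_dvd (hX : Nat.card X = 81) (hf : ∀ g : G, (∀ x : X, g • x = x) → g = 1) : Nat.card G ∣ 51840 := by
  have h80 : Nat.card {v : X | v ≠ 0} = 80 := by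
    have h1 : ({v : X | v ≠ 0} : Set X) = ({0} : Set X)ᶜ := by ext; simp
    rw [h1, Nat.card_coe_set_eq, Set.ncard_compl, Set.ncard_singleton, hX]
  have key : Nat.card (⊤ : Subgroup G) ∣ Nat.card {v : X | v ≠ 0} * (27 * (8 * (3 * 1))) := by
    apply step
    · intro h _ s hs
      rw [Set.mem_ofPred_eq] at hs ⊢
      rwa [Ne, smul_eq_zero_iff_eq]
    intro v hv
    have hv : v ≠ 0 := hv
    obtain ⟨w₀, hw₀⟩ := F.exists_one hv
    have hsv : Function.Surjective (F.R v) := by
      intro c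
      refine ⟨(c.val : ℤ) • w₀, ?_⟩
      rw [map_zsmul, F.R_apply, hw₀, zsmul_eq_mul, mul_one]
      simp
    have h27 : Nat.card {w : X | β v w = 1} = 27 := by
      have h1 := card_fiber (F.R v) hsv 1
      rw [Nat.card_zmod, hX] at h1
      have h2 : Nat.card {w : X | β v w = 1} = Nat.card {w // F.R v w = 1} := rfl
      omega
    rw [← h27]
    apply step
    · intro h hh w hw
      rw [Set.mem_ofPred_eq] at hw ⊢
      have h1 : h • v = v := hh.2
      rw [← hw, ← F.inv h v w, h1]
    intro w hw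
    have hw : β v w = 1 := hw
    have hwv : β w v = -1 := by rw [F.skew, hw]
    let f2 : X →+ ZMod 3 × ZMod 3 := (F.R v).prod (F.R w)
    have hf2 : ∀ x, f2 x = (β v x, β w x) := fun x => rfl
    have hs2 : Function.Surjective f2 := by
      rintro ⟨c, d⟩
      refine ⟨(c.val : ℤ) • w - (d.val : ℤ) • v, ?_⟩
      rw [hf2, F.sub_right, F.sub_right, F.zsmul_right, F.zsmul_right, F.zsmul_right, F.zsmul_right, hw, F.alt, F.alt,
        hwv]
      simp
    have h9 : Nat.card {x // f2 x = 0} = 9 := by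
      have h1 := card_fiber f2 hs2 0
      rw [Nat.card_prod, Nat.card_zmod, hX] at h1
      omega
    have h8 : Nat.card {u : X | u ≠ 0 ∧ β v u = 0 ∧ β w u = 0} = 8 := by
      have h1 : ({u : X | u ≠ 0 ∧ β v u = 0 ∧ β w u = 0} : Set X) = {x : X | f2 x = 0} \ {0} := by
        ext u
        rw [Set.mem_sdiff, Set.mem_ofPred_eq, Set.mem_ofPred_eq, Set.mem_singleton_iff, hf2, Prod.mk_eq_zero]
        tauto
      rw [h1, Nat.card_coe_set_eq, Set.ncard_sdiff_singleton_of_mem (by
        rw [Set.mem_ofPred_eq, map_zero])]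
      have h2 : ({x : X | f2 x = 0} : Set X).ncard = 9 := by
        rw [← Nat.card_coe_set_eq]; exact h9
      rw [h2]
    rw [← h8]
    apply step
    · intro h hh u hu
      have h1 : h • v = v := hh.1.2
      have h2 : h • w = w := hh.2
      refine ⟨?_, ?_, ?_⟩
      · rw [Ne, smul_eq_zero_iff_eq]; exact hu.1
      · rw [← h1, F.inv]; exact hu.2.1
      · rw [← h2, F.inv]; exact hu.2.2
    intro u hu
    obtain ⟨hu0, hvu, hwu⟩ := hu
    have huv : β u v = 0 := by rw [F.skew, hvu, neg_zero]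
    have huw : β u w = 0 := by rw [F.skew, hwu, neg_zero]
    obtain ⟨z₀, hz₀⟩ := F.exists_one hu0
    let f3 : X →+ ZMod 3 × ZMod 3 × ZMod 3 := (F.R v).prod ((F.R w).prod (F.R u))
    have hf3 : ∀ x, f3 x = (β v x, β w x, β u x) := fun x => rfl
    have hs3 : Function.Surjective f3 := by
      rintro ⟨c, d, e⟩
      obtain ⟨x₀, h1⟩ : ∃ x₀, β u x₀ = e := ⟨(e.val : ℤ) • z₀, by
        rw [F.zsmul_right, hz₀]
        simp⟩
      refine ⟨((c - β v x₀).val : ℤ) • w - ((d - β w x₀).val : ℤ) • v + x₀, ?_⟩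
      simp only [hf3, F.add_right, F.sub_right, F.zsmul_right, hw, F.alt, hwv, huv, huw, h1]
      simp
    have h3 : Nat.card {z : X | β v z = 0 ∧ β w z = 0 ∧ β u z = 1} = 3 := by
      have h1 := card_fiber f3 hs3 (0, 0, 1)
      rw [Nat.card_prod, Nat.card_prod, Nat.card_zmod, hX] at h1
      have h2 : Nat.card {z : X | β v z = 0 ∧ β w z = 0 ∧ β u z = 1} = Nat.card {x // f3 x = (0, 0, 1)} := by
        apply Nat.card_congr
        apply Equiv.subtypeEquivRight
        intro x
        show (β v x = 0 ∧ β w x = 0 ∧ β u x = 1) ↔ f3 x = (0, 0, 1)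
        rw [hf3, Prod.mk.injEq, Prod.mk.injEq]
      omega
    rw [← h3]
    apply step
    · intro h hh z hz
      have h1 : h • v = v := hh.1.1.2
      have h2 : h • w = w := hh.1.2
      have h3 : h • u = u := hh.2
      refine ⟨?_, ?_, ?_⟩
      · rw [← h1, F.inv]; exact hz.1
      · rw [← h2, F.inv]; exact hz.2.1
      · rw [← h3, F.inv]; exact hz.2.2
    intro z hz
    obtain ⟨hvz, hwz, huz⟩ := hz
    rw [Nat.dvd_one, Subgroup.card_eq_one, eq_bot_iff]
    rintro h ⟨⟨⟨⟨-, h1⟩, h2⟩, h3'⟩, h4⟩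
    have h1 : h • v = v := h1
    have h2 : h • w = w := h2
    have h3' : h • u = u := h3'
    have h4 : h • z = z := h4
    rw [Subgroup.mem_bot]
    apply hf
    intro x
    have hzv : β z v = 0 := by rw [F.skew, hvz, neg_zero]
    have hzw : β z w = 0 := by rw [F.skew, hwz, neg_zero]
    have hzu : β z u = -1 := by rw [F.skew, huz]
    let f4 : X →+ ZMod 3 × ZMod 3 × ZMod 3 × ZMod 3 := (F.R v).prod ((F.R w).prod ((F.R u).prod (F.R z)))
    have hf4 : ∀ x, f4 x = (β v x, β w x, β u x, β z x) := fun x => rfl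
    have hs4 : Function.Surjective f4 := by
      rintro ⟨c, d, e, g⟩
      refine ⟨(c.val : ℤ) • w - (d.val : ℤ) • v + ((e.val : ℤ) • z - (g.val : ℤ) • u), ?_⟩
      simp only [hf4, F.add_right, F.sub_right, F.zsmul_right, hw, F.alt, hwv, huv, huw, hvz, hwz, huz, hzv, hzw, hzu, hvu,
        hwu]
      simp
    have h5 := card_fiber f4 hs4 0
    rw [Nat.card_prod, Nat.card_prod, Nat.card_prod, Nat.card_zmod, hX] at h5
    have h6 : Nat.card {x // f4 x = 0} = 1 := by omega
    have h7 := (Nat.card_eq_one_iff_unique.1 h6).1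
    have h8 : f4 (h • x - x) = 0 := by
      rw [hf4, F.sub_right, F.sub_right, F.sub_right, F.sub_right]
      have e1 : β v (h • x) = β v x := by rw [← F.inv h v x, h1]
      have e2 : β w (h • x) = β w x := by rw [← F.inv h w x, h2]
      have e3 : β u (h • x) = β u x := by rw [← F.inv h u x, h3']
      have e4 : β z (h • x) = β z x := by rw [← F.inv h z x, h4]
      rw [e1, e2, e3, e4, sub_self, sub_self, sub_self, sub_self]
      rfl
    have h9 := congrArg Subtype.val (h7.elim ⟨_, h8⟩ ⟨0, map_zero f4⟩)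
    exact sub_eq_zero.1 h9
  rw [h80, Nat.card_congr Subgroup.topEquiv.toEquiv] at key
  exact key

end Fm

/-! ### an element of order five -/

/-- counting fixed points of an element of order five -/
theorem modEq_fix {H Ω : Type*} [Group H] [Finite Ω] [MulAction H Ω] {y : H} (hy : y ^ 5 = 1) (Z : Set Ω)
    (hZ : ∀ z ∈ Z, y • z ∈ Z) : Nat.card Z ≡ Nat.card {z : Ω | z ∈ Z ∧ y • z = z} [MOD 5] := by
  have hf : Fact (Nat.Prime 5) := ⟨by norm_num⟩
  have hfin : IsOfFinOrder y := isOfFinOrder_iff_pow_eq_one.2 ⟨5, by norm_num, hy⟩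
  have h1 : ∀ (n : ℕ), ∀ z ∈ Z, y ^ n • z ∈ Z := by
    intro n
    induction n with
    | zero => intro z hz; rwa [pow_zero, one_smul]
    | succ n ih => intro z hz; rw [pow_succ, mul_smul]; exact ih _ (hZ z hz)
  have h2 : ∀ p ∈ Subgroup.zpowers y, ∀ z ∈ Z, p • z ∈ Z := by
    intro p hp z hz
    obtain ⟨n, rfl⟩ := (hfin.mem_powers_iff_mem_zpowers).2 hp
    exact h1 n z hz
  let _ : MulAction (Subgroup.zpowers y) Z := {
    smul := fun p z => ⟨(p : H) • (z : Ω), h2 p p.2 z z.2⟩
    one_smul := fun s => Subtype.ext (one_smul H (s : Ω))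
    mul_smul := fun a b s => Subtype.ext (mul_smul (a : H) (b : H) (s : Ω)) }
  have hP : IsPGroup 5 (Subgroup.zpowers y) := by
    rintro ⟨p, n, rfl⟩
    refine ⟨1, Subtype.ext ?_⟩
    show (y ^ n) ^ 5 ^ 1 = 1
    rw [pow_one, ← zpow_natCast, ← zpow_mul, mul_comm, zpow_mul, zpow_natCast, hy, one_zpow]
  have h3 := hP.card_modEq_card_fixedPoints Z
  have h4 : Nat.card (MulAction.fixedPoints (Subgroup.zpowers y) Z) = Nat.card {z : Ω | z ∈ Z ∧ y • z = z} := by
    apply Nat.card_congr
    refine ⟨fun z => ⟨z.1.1, z.1.2, ?_⟩, fun z => ⟨⟨z.1, z.2.1⟩, ?_⟩, fun _ => rfl, fun _ => rfl⟩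
    · exact congrArg Subtype.val (z.2 ⟨y, Subgroup.mem_zpowers y⟩)
    · rintro ⟨p, hp⟩
      apply Subtype.ext
      show p • z.1 = z.1
      obtain ⟨n, rfl⟩ := (hfin.mem_powers_iff_mem_zpowers).2 hp
      have h5 : y • z.1 = z.1 := z.2.2
      have h6 : ∀ n : ℕ, y ^ n • z.1 = z.1 := by
        intro n
        induction n with
        | zero => rw [pow_zero, one_smul]
        | succ n ih => rw [pow_succ, mul_smul, h5, ih]
      exact h6 n
  rwa [h4] at h3

theorem card_of_modEq {n : ℕ} (h1 : n ∣ 81) (h2 : n ≡ 1 [MOD 5]) : n = 1 ∨ n = 81 := by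
  have h3 : n ∈ Nat.divisors 81 := Nat.mem_divisors.2 ⟨h1, by norm_num⟩
  have h4 : Nat.divisors 81 = {1, 3, 9, 27, 81} := by decide +kernel
  rw [h4] at h3
  simp only [Finset.mem_insert, Finset.mem_singleton] at h3
  unfold Nat.ModEq at h2
  omega

section

variable (hX : Nat.card X = 81) (hf : ∀ g : G, (∀ x : X, g • x = x) → g = 1) {y : G} (hy5 : y ^ 5 = 1) (hy1 : y ≠ 1)

include hX hf hy5 hy1

theorem fix_eq_zero {x : X} (hx : y • x = x) : x = 0 := by
  let C : AddSubgroup X := {
    carrier := {x | y • x = x}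
    zero_mem' := smul_zero y
    add_mem' := by
      intro a b ha hb
      show y • (a + b) = a + b
      rw [smul_add, ha, hb]
    neg_mem' := by
      intro a ha
      show y • (-a) = -a
      rw [smul_neg, ha] }
  have h1 : Nat.card C ∣ 81 := by rw [← hX]; exact AddSubgroup.card_addSubgroup_dvd_card C
  have h2 := modEq_fix hy5 (Set.univ : Set X) (fun _ _ => trivial)
  have h3 : Nat.card {z : X | z ∈ (Set.univ : Set X) ∧ y • z = z} = Nat.card C := by
    apply Nat.card_congr
    apply Equiv.subtypeEquivRight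
    intro z
    exact ⟨fun h => h.2, fun h => ⟨trivial, h⟩⟩
  rw [h3, Nat.card_congr (Equiv.Set.univ X), hX] at h2
  rcases card_of_modEq h1 (h2.symm.trans (by decide)) with h | h
  · have h4 : C = ⊥ := AddSubgroup.card_eq_one.1 h
    have h5 : x ∈ C := hx
    rwa [h4, AddSubgroup.mem_bot] at h5
  · exfalso
    apply hy1
    apply hf
    intro z
    have h4 : C = ⊤ := AddSubgroup.eq_top_of_card_eq C (by rw [h, hX])
    have h5 : z ∈ C := by rw [h4]; trivial
    exact h5

theorem irr (Z : AddSubgroup X) (hZ : ∀ z ∈ Z, y • z ∈ Z) : Z = ⊥ ∨ Z = ⊤ := by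
  have h1 : Nat.card Z ∣ 81 := by rw [← hX]; exact AddSubgroup.card_addSubgroup_dvd_card Z
  have h2 := modEq_fix hy5 (Z : Set X) hZ
  have h3 : Nat.card {z : X | z ∈ (Z : Set X) ∧ y • z = z} = 1 := by
    rw [Nat.card_eq_one_iff_unique]
    refine ⟨⟨fun a b => Subtype.ext ?_⟩, ⟨⟨0, Z.zero_mem, smul_zero y⟩⟩⟩
    rw [fix_eq_zero hX hf hy5 hy1 a.2.2, fix_eq_zero hX hf hy5 hy1 b.2.2]
  rw [h3] at h2
  rcases card_of_modEq h1 h2 with h | h
  · exact Or.inl (AddSubgroup.card_eq_one.1 h)
  · exact Or.inr (AddSubgroup.eq_top_of_card_eq Z (by rw [h, hX]))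

/-- an endomorphism commuting with `y` is zero or injective -/
theorem ker_end (T : X →+ X) (hT : ∀ x, T (y • x) = y • T x) : (∀ x, T x = 0) ∨ ∀ x, T x = 0 → x = 0 := by
  rcases irr hX hf hy5 hy1 T.ker (fun z hz => by
    rw [AddMonoidHom.mem_ker] at hz ⊢
    rw [hT, hz, smul_zero]) with h | h
  · right
    intro x hx
    have h1 : x ∈ T.ker := hx
    rwa [h, AddSubgroup.mem_bot] at h1
  · left
    intro x
    have h1 : x ∈ T.ker := by rw [h]; trivial
    exact h1

theorem invol {d : G} (hd : d * d = 1) (hdy : d * y = y * d) : d = 1 ∨ ∀ x : X, d • x = -x := by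
  let T : X →+ X := DistribSMul.toAddMonoidHom X d + AddMonoidHom.id X
  have hTx : ∀ x, T x = d • x + x := fun x => rfl
  rcases ker_end hX hf hy5 hy1 T (by
    intro x
    rw [hTx, hTx, ← mul_smul, hdy, mul_smul, smul_add]) with h | h
  · right
    intro x
    exact eq_neg_of_add_eq_zero_left (h x)
  · left
    apply hf
    intro x
    have h1 : T (d • x - x) = 0 := by
      rw [hTx, smul_sub, ← mul_smul, hd, one_smul]
      abel
    exact sub_eq_zero.1 (h _ h1)

/-- no element of order four centralizes `y` -/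
theorem not_four {β : X → X → ZMod 3} (F : Fm G X β) (h3 : ∀ x : X, 3 • x = 0) {c : G}
    (hc : ∀ x : X, c • c • x = -x) (hcy : c * y = y * c) : False := by
  let Y : AddMonoid.End X := DistribSMul.toAddMonoidHom X y
  let C : AddMonoid.End X := DistribSMul.toAddMonoidHom X c
  have hY : ∀ x, Y x = y • x := fun x => rfl
  have hC : ∀ x, C x = c • x := fun x => rfl
  have hYC : C * Y = Y * C := by
    ext x
    show c • y • x = y • c • x
    rw [← mul_smul, hcy, mul_smul]
  have hCC : C * C = -1 := by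
    ext x
    exact hc x
  have h30 : (3 : AddMonoid.End X) = 0 := by
    ext x
    show ((3 : ℕ) : AddMonoid.End X) x = 0
    rw [AddMonoid.End.natCast_apply]
    exact h3 x
  have hsum : 1 + Y + Y * Y + Y * Y * Y + Y * Y * Y * Y = 0 := by
    ext x
    show x + y • x + y • y • x + y • y • y • x + y • y • y • y • x = 0
    apply fix_eq_zero hX hf hy5 hy1
    have h5 : y • y • y • y • y • x = x := by
      have : y • y • y • y • y • x = (y ^ 5) • x := by
        rw [pow_succ, pow_succ, pow_succ, pow_succ, pow_one, mul_smul, mul_smul, mul_smul, mul_smul]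
      rw [this, hy5, one_smul]
    rw [smul_add, smul_add, smul_add, smul_add, h5]
    abel
  have hprod : (Y * Y + 1 - Y - C * Y) * (Y * Y + 1 - Y + C * Y) = 0 := by
    have e1 : (C * Y) * (C * Y) = -(Y * Y) := by
      rw [mul_assoc, ← mul_assoc Y C Y, ← hYC, mul_assoc C Y Y, ← mul_assoc, ← mul_assoc, hCC]
      noncomm_ring
    have e2 : (C * Y) * (Y * Y + 1 - Y) = (Y * Y + 1 - Y) * (C * Y) := by
      have e3 : C * Y * Y = Y * (C * Y) := by rw [hYC, mul_assoc, ← hYC]
      have e4 : C * Y * (Y * Y) = Y * Y * (C * Y) := by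
        rw [← mul_assoc, e3, mul_assoc, e3, mul_assoc]
      rw [mul_sub, mul_add, sub_mul, add_mul, mul_one, one_mul, e3, e4]
    have e5 : (Y * Y + 1 - Y - C * Y) * (Y * Y + 1 - Y + C * Y) =
        (Y * Y + 1 - Y) * (Y * Y + 1 - Y) - (C * Y) * (C * Y) := by
      rw [sub_mul, mul_add, mul_add, e2]
      abel
    rw [e5, e1]
    have e6 : (Y * Y + 1 - Y) * (Y * Y + 1 - Y) - -(Y * Y) =
        (1 + Y + Y * Y + Y * Y * Y + Y * Y * Y * Y) + 3 * (Y * Y - Y - Y * Y * Y) := by noncomm_ring
    rw [e6, hsum, h30]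
    simp
  have hcomm1 : ∀ x, (Y * Y + 1 - Y - C * Y) (y • x) = y • (Y * Y + 1 - Y - C * Y) x := by
    intro x
    show y • y • y • x + y • x - y • y • x - c • y • y • x = y • (y • y • x + x - y • x - c • y • x)
    rw [smul_sub, smul_sub, smul_add, ← mul_smul c y (y • x), hcy, mul_smul]
  have hcy' : ∀ x : X, c • y • x = y • c • x := by
    intro x
    rw [← mul_smul, hcy, mul_smul]
  have hyinv : ∀ a b : X, β (y • a) b = β a (y⁻¹ • b) := by
    intro a b
    rw [← F.inv y a (y⁻¹ • b), smul_inv_smul]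
  have hyinv' : ∀ a b : X, β (y⁻¹ • a) b = β a (y • b) := by
    intro a b
    rw [← F.inv y (y⁻¹ • a) b, smul_inv_smul]
  have hcinv : ∀ a b : X, β (c • a) b = -β a (c • b) := by
    intro a b
    have h1 := F.inv c a (c • b)
    rw [hc, F.neg_right] at h1
    rw [← h1, neg_neg]
  -- the two cases
  have main : ∀ ε : ℤ, (∀ x : X, c • x = ε • (y • x + y⁻¹ • x - x)) → False := by
    intro ε h
    have h1 : ∀ a b : X, β (c • a) b = β a (c • b) := by
      intro a b
      rw [h a, h b, F.zsmul_right, F.zsmul_left, F.sub_left, F.add_left, F.sub_right, F.add_right, hyinv, hyinv',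
        add_comm (β a (y⁻¹ • b))]
    obtain ⟨x, hx⟩ : ∃ x : X, x ≠ 0 := by
      by_contra! hh
      have h2 : Nat.card X = 1 := Nat.card_eq_one_iff_unique.2 ⟨⟨fun a b => by rw [hh a, hh b]⟩, ⟨0⟩⟩
      omega
    apply hx
    apply F.nondeg
    intro b
    have h2 := h1 x (c • b)
    rw [hcinv, hc, F.neg_right, neg_neg] at h2
    have h4 : ∀ z : ZMod 3, z = -z → z = 0 := by decide
    exact h4 _ h2
  rcases ker_end hX hf hy5 hy1 (show AddMonoid.End X from Y * Y + 1 - Y - C * Y) hcomm1 with h | h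
  · apply main 1
    intro x
    have h1 := h (y⁻¹ • x)
    have h2 : y • y • y⁻¹ • x + y⁻¹ • x - y • y⁻¹ • x - c • y • y⁻¹ • x = 0 := h1
    rw [smul_inv_smul] at h2
    rw [one_smul]
    have h4 := sub_eq_zero.1 h2
    rw [← h4]
  · apply main (-1)
    intro x
    have h1 : (Y * Y + 1 - Y + C * Y) (y⁻¹ • x) = 0 := by
      apply h
      exact DFunLike.congr_fun hprod (y⁻¹ • x)
    have h2 : y • y • y⁻¹ • x + y⁻¹ • x - y • y⁻¹ • x + c • y • y⁻¹ • x = 0 := h1
    rw [smul_inv_smul] at h2
    rw [neg_one_zsmul]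
    exact eq_neg_of_add_eq_zero_right h2

/-- a `2`-element centralizing `y` is `1` or `-1` -/
theorem two_elt {β : X → X → ZMod 3} (F : Fm G X β) (h3 : ∀ x : X, 3 • x = 0) (k : ℕ) : ∀ {c : G},
    c ^ 2 ^ k = 1 → c * y = y * c → c = 1 ∨ ∀ x : X, c • x = -x := by
  induction k with
  | zero =>
    intro c hc _
    left
    rwa [pow_zero, pow_one] at hc
  | succ k ih =>
    intro c hc hcy
    have h1 : (c * c) ^ 2 ^ k = 1 := by
      rw [← pow_two, ← pow_mul, ← pow_succ']
      exact hc
    have h2 : (c * c) * y = y * (c * c) := by rw [mul_assoc, hcy, ← mul_assoc, hcy, mul_assoc]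
    rcases ih h1 h2 with h | h
    · exact invol hX hf hy5 hy1 h hcy
    · exfalso
      apply not_four hX hf hy5 hy1 F h3 (c := c) ?_ hcy
      intro x
      rw [← mul_smul]
      exact h x

/-- a `3`-subgroup normalized by `y` is trivial -/
theorem three_sub (R : Subgroup G) (hR : IsPGroup 3 R) (hyR : y ∈ Subgroup.normalizer (R : Set G)) :
    R = ⊥ := by
  have hf3 : Fact (Nat.Prime 3) := ⟨by norm_num⟩
  let C : AddSubgroup X := {
    carrier := {x | ∀ g ∈ R, g • x = x}
    zero_mem' := fun g _ => smul_zero g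
    add_mem' := by
      intro a b ha hb g hg
      rw [smul_add, ha g hg, hb g hg]
    neg_mem' := by
      intro a ha g hg
      rw [smul_neg, ha g hg] }
  have h1 : ∀ z ∈ C, y • z ∈ C := by
    intro z hz g hg
    have h2 : y⁻¹ * g * y ∈ R := by
      have := (Subgroup.mem_normalizer_iff.1 (inv_mem hyR) g).1 hg
      rwa [inv_inv] at this
    have h3 := hz _ h2
    rw [mul_smul, mul_smul, inv_smul_eq_iff] at h3
    exact h3
  rcases irr hX hf hy5 hy1 C h1 with h | h
  · exfalso
    have h2 := hR.card_modEq_card_fixedPoints X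
    have h4 : Nat.card (MulAction.fixedPoints R X) = Nat.card C := by
      apply Nat.card_congr
      apply Equiv.subtypeEquivRight
      intro z
      exact ⟨fun hz g hg => hz ⟨g, hg⟩, fun hz g => hz g g.2⟩
    rw [h4, h, AddSubgroup.card_bot, hX] at h2
    exact absurd h2 (by decide)
  · rw [eq_bot_iff]
    intro g hg
    rw [Subgroup.mem_bot]
    apply hf
    intro x
    have h2 : x ∈ C := by rw [h]; trivial
    exact h2 g hg

end

/-- **Groups with a normal `5`-complement and an element of order `5` in `Sp_4(3)` have order at most 160.** -/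
theorem card_le {β : X → X → ZMod 3} (F : Fm G X β) (hX : Nat.card X = 81) (h3 : ∀ x : X, 3 • x = 0)
    (hf : ∀ g : G, (∀ x : X, g • x = x) → g = 1) {K : Subgroup G} (hK : LP 5 K) {y : G} (hy : PEl 5 y) (hy1 : y ≠ 1) :
    Nat.card G ≤ 160 := by
  have hf3 : Fact (Nat.Prime 3) := ⟨by norm_num⟩
  have hf5 : Fact (Nat.Prime 5) := ⟨by norm_num⟩
  have hn := hK.normal
  have hG := F.card_dvd hX hf
  -- the order of y
  have hord : ∀ {z : G}, PEl 5 z → z ^ 5 = 1 := by
    intro z hz
    obtain ⟨k, hk⟩ := hz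
    have h1 : orderOf z ∣ 5 ^ k := orderOf_dvd_of_pow_eq_one hk
    obtain ⟨j, -, hj⟩ := (Nat.dvd_prime_pow hf5.out).1 h1
    have h2 : 5 ^ j ∣ 51840 := by rw [← hj]; exact (orderOf_dvd_natCard z).trans hG
    have h4 : j ≤ 1 := by
      by_contra h5
      have h6 : 5 ^ 2 ∣ 51840 := (pow_dvd_pow 5 (by omega)).trans h2
      omega
    have h5 : orderOf z ∣ 5 := by
      rw [hj]
      calc 5 ^ j ∣ 5 ^ 1 := pow_dvd_pow 5 h4
        _ = 5 := pow_one 5
    exact orderOf_dvd_iff_pow_eq_one.1 h5
  have hy5 := hord hy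
  have hidx : K.index ≤ 5 := by
    have hp : IsPGroup 5 (G ⧸ K) := by
      intro q
      induction q using QuotientGroup.induction_on with
      | H g =>
        obtain ⟨k, hk⟩ := hK.isP g
        refine ⟨k, ?_⟩
        rw [← QuotientGroup.mk_pow, QuotientGroup.eq_one_iff]
        exact hk
    obtain ⟨n, hn⟩ := IsPGroup.iff_card.1 hp
    rw [Subgroup.index_eq_card, hn]
    have h2 : 5 ^ n ∣ 51840 := by
      rw [← hn, ← Subgroup.index_eq_card]
      exact (Subgroup.index_dvd_card K).trans hG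
    have h4 : n ≤ 1 := by
      by_contra h5
      have h6 : 5 ^ 2 ∣ 51840 := (pow_dvd_pow 5 (by omega)).trans h2
      omega
    calc 5 ^ n ≤ 5 ^ 1 := Nat.pow_le_pow_right (by norm_num) h4
      _ = 5 := pow_one 5
  -- 5 divides the index
  have hyK : y ∉ K := by
    intro h
    have h1 : orderOf (⟨y, h⟩ : K) = 5 := by
      rw [Subgroup.orderOf_mk]
      exact orderOf_eq_prime hy5 hy1
    exact hK.cop (h1 ▸ orderOf_dvd_natCard (⟨y, h⟩ : K))
  have h5idx : 5 ∣ K.index := by
    have h1 : orderOf ((y : G) : G ⧸ K) = 5 := by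
      apply orderOf_eq_prime
      · rw [← QuotientGroup.mk_pow, hy5, QuotientGroup.mk_one]
      · rwa [Ne, QuotientGroup.eq_one_iff]
    rw [Subgroup.index_eq_card, ← h1]
    exact orderOf_dvd_natCard _
  -- 3 does not divide |K|
  have hK3 : ¬ 3 ∣ Nat.card K := by
    intro h
    obtain ⟨R⟩ := (inferInstance : Nonempty (Sylow 3 K))
    have hfr := Sylow.normalizer_sup_eq_top R
    set N : Subgroup G := Subgroup.normalizer (((R : Subgroup K).map K.subtype : Subgroup G) : Set G) with hN
    have h5N : 5 ∣ Nat.card N := by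
      have h1 : K.relIndex N = K.index := by
        rw [← Subgroup.relIndex_sup_left, sup_comm, hfr, Subgroup.relIndex_top_right]
      rw [← h1] at h5idx
      exact h5idx.trans (Subgroup.relIndex_dvd_card K N)
    obtain ⟨z, hz⟩ := exists_prime_orderOf_dvd_card' 5 h5N
    have hz5 : (z : G) ^ 5 = 1 := by
      have h1 := pow_orderOf_eq_one z
      rw [hz] at h1
      exact congrArg Subtype.val h1
    have hz1 : (z : G) ≠ 1 := by
      intro h1
      have h2 : z = 1 := Subtype.ext h1
      rw [h2, orderOf_one] at hz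
      omega
    have h2 := three_sub hX hf hz5 hz1 ((R : Subgroup K).map K.subtype) (R.isPGroup'.map K.subtype) z.2
    have h4 : (R : Subgroup K) = ⊥ := (Subgroup.map_eq_bot_iff_of_injective _ K.subtype_injective).1 h2
    have h6 := R.dvd_card_of_dvd_card h
    rw [h4, Subgroup.card_bot] at h6
    omega
  -- K is a 2-group
  have hK128 : Nat.card K ∣ 128 := by
    have h1 : Nat.card K ∣ 51840 := (Subgroup.card_subgroup_dvd_card K).trans hG
    have h2 : (51840 : ℕ) = 128 * (3 ^ 4 * 5) := by norm_num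
    rw [h2] at h1
    apply Nat.Coprime.dvd_of_dvd_mul_right _ h1
    apply Nat.Coprime.mul_right
    · exact Nat.Coprime.pow_right 4 ((Nat.Prime.coprime_iff_not_dvd hf3.out).2 hK3).symm
    · exact ((Nat.Prime.coprime_iff_not_dvd hf5.out).2 hK.cop).symm
  -- conjugation action of y on K
  have hcong : Nat.card K ≡ Nat.card {z : G | z ∈ (K : Set G) ∧ y * z * y⁻¹ = z} [MOD 5] := by
    have h1 := modEq_fix (H := ConjAct G) (Ω := G) (y := ConjAct.toConjAct y) (by
      rw [← map_pow, hy5, map_one]) (K : Set G) (fun z hz => by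
        rw [ConjAct.toConjAct_smul]
        exact hn.conj_mem z hz y)
    exact h1
  have hle2 : Nat.card {z : G | z ∈ (K : Set G) ∧ y * z * y⁻¹ = z} ≤ 2 := by
    rw [Nat.card_coe_set_eq]
    have hpm : ∀ z ∈ {z : G | z ∈ (K : Set G) ∧ y * z * y⁻¹ = z}, z = 1 ∨ ∀ x : X, z • x = -x := by
      rintro z ⟨hz, hyz⟩
      apply two_elt hX hf hy5 hy1 F h3 7
      · have h1 : (⟨z, hz⟩ : K) ^ 2 ^ 7 = 1 := by
          rw [← orderOf_dvd_iff_pow_eq_one]
          exact (orderOf_dvd_natCard _).trans hK128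
        exact congrArg Subtype.val h1
      · exact (mul_inv_eq_iff_eq_mul.1 hyz).symm
    by_cases hex : ∃ z₀ : G, ∀ x : X, z₀ • x = -x
    · obtain ⟨z₀, hz₀⟩ := hex
      have h1 : {z : G | z ∈ (K : Set G) ∧ y * z * y⁻¹ = z} ⊆ {1, z₀} := by
        intro z hz
        rcases hpm z hz with h | h
        · exact Or.inl h
        · right
          have h2 : z₀⁻¹ * z = 1 := by
            apply hf
            intro x
            rw [mul_smul, h, ← hz₀, inv_smul_smul]
          rw [Set.mem_singleton_iff]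
          exact (inv_mul_eq_one.1 h2).symm
      exact (Set.ncard_le_ncard h1).trans (Set.ncard_insert_le _ _ |>.trans (by rw [Set.ncard_singleton]))
    · have h1 : {z : G | z ∈ (K : Set G) ∧ y * z * y⁻¹ = z} ⊆ {1} := by
        intro z hz
        rcases hpm z hz with h | h
        · exact h
        · exact absurd ⟨z, h⟩ hex
      exact (Set.ncard_le_ncard h1).trans (by rw [Set.ncard_singleton]; norm_num)
  have hpos : 0 < Nat.card {z : G | z ∈ (K : Set G) ∧ y * z * y⁻¹ = z} := by
    have : Nonempty {z : G | z ∈ (K : Set G) ∧ y * z * y⁻¹ = z} := ⟨⟨1, K.one_mem, by rw [mul_one, mul_inv_cancel]⟩⟩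
    exact Nat.card_pos
  have hK32 : Nat.card K ≤ 32 := by
    have h4 : Nat.card K ∈ Nat.divisors 128 := Nat.mem_divisors.2 ⟨hK128, by norm_num⟩
    have h5 : Nat.divisors 128 = {1, 2, 4, 8, 16, 32, 64, 128} := by decide +kernel
    rw [h5] at h4
    simp only [Finset.mem_insert, Finset.mem_singleton] at h4
    unfold Nat.ModEq at hcong
    omega
  rw [← K.card_mul_index]
  calc Nat.card K * K.index ≤ 32 * 5 := Nat.mul_le_mul hK32 hidx
    _ = 160 := by norm_num

end Cfsg.Agent.H757.RC.Sp
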